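import Groth.Agent.L11.GalCoh.Transfer
import Mathlib.RepresentationTheory.Homological.GroupCohomology.LongExactSequence
import Mathlib.RingTheory.Henselian

/-!
Cohomology of a uniquely divisible module vanishes; roots of principal units in henselian rings.
-/

set_option autoImplicit false
universe u

open CategoryTheory CategoryTheory.Limits groupCohomology

namespace Groth.L14.GalCoh

/-- Positive degree cohomology of a finite group vanishes on modules on which its order is bijective. -/
theorem eq_zero_of_card_bijective {k G : Type u} [CommRing k] [Group G] [Fintype G] (A : Rep.{u} k G)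
    (h : Function.Bijective fun a : A => (Fintype.card G : k) • a) (n : ℕ) (z : groupCohomology A (n + 1)) :
    z = 0 := by
  let e : A ≃ₗ[k] A := LinearEquiv.ofBijective ((Fintype.card G : k) • LinearMap.id) h
  have he : ∀ a, e a = (Fintype.card G : k) • a := fun a => rfl
  induction z using groupCohomology_induction_on with | h x => ?_
  obtain ⟨c, hc⟩ := Groth.L11.GalCoh.exists_d_eq_sum A (fun _ => e.symm.toLinearMap)
    (fun g y a => by
      apply e.injective
      simp only [LinearEquiv.coe_coe, LinearEquiv.apply_symm_apply]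
      rw [he, ← map_smul, ← he, e.apply_symm_apply]) n _ (Groth.L11.GalCoh.d_iCocycles A x)
  refine Groth.L11.GalCoh.π_eq_zero_of_d A x c (funext fun g => ?_)
  rw [hc g, Finset.sum_const, Finset.card_univ, ← Nat.cast_smul_eq_nsmul k, ← he]
  exact e.apply_symm_apply _

/-- A surjection whose kernel is uniquely divisible by the order of the group induces bijections. -/
theorem map_bijective {k G : Type u} [CommRing k] [Group G] [Fintype G] {A B : Rep.{u} k G} (φ : A ⟶ B)
    (hs : Function.Surjective φ.hom)
    (hd : ∀ a : A, φ.hom a = 0 → ∃ b : A, φ.hom b = 0 ∧ (Fintype.card G : k) • b = a)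
    (hu : ∀ a : A, φ.hom a = 0 → (Fintype.card G : k) • a = 0 → a = 0) (n : ℕ) :
    Function.Bijective ((groupCohomology.functor k G (n + 1)).map φ).hom := by
  let X : ShortComplex (Rep.{u} k G) := ShortComplex.mk (kernel.ι φ) φ (kernel.condition φ)
  have hX : X.ShortExact :=
    { exact := ShortComplex.exact_of_f_is_kernel _ (kernelIsKernel φ)
      mono_f := inferInstanceAs (Mono (kernel.ι φ))
      epi_g := (Rep.epi_iff_surjective φ).2 hs }
  have hinj : Function.Injective X.f.hom := (Rep.mono_iff_injective X.f).1 hX.mono_f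
  have hrange : ∀ a : A, φ.hom a = 0 → ∃ x : X.X₁, X.f.hom x = a := fun a ha =>
    (ShortComplex.moduleCat_exact_iff _).1 (hX.exact.map (forget₂ (Rep k G) (ModuleCat k))) a ha
  have hzero : ∀ x : X.X₁, φ.hom (X.f.hom x) = 0 := fun x => congrArg (fun ψ : X.X₁ ⟶ B => ψ.hom x) X.zero
  have hbij : Function.Bijective fun x : X.X₁ => (Fintype.card G : k) • x := by
    refine ⟨fun x y hxy => hinj (sub_eq_zero.1 (hu _ (by simp [hzero]) ?_)), fun x => ?_⟩
    · rw [smul_sub, ← map_smul, ← map_smul, ← map_sub]
      simp only at hxy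
      rw [hxy, sub_self, map_zero]
    · obtain ⟨b, hb, hb'⟩ := hd _ (hzero x)
      obtain ⟨y, rfl⟩ := hrange b hb
      exact ⟨y, hinj (by rw [map_smul]; exact hb')⟩
  have h0 : ∀ j, IsZero (groupCohomology X.X₁ (j + 1)) := fun j =>
    ModuleCat.isZero_of_iff_subsingleton.2
      ⟨fun a b => (eq_zero_of_card_bijective _ hbij j a).trans (eq_zero_of_card_bijective _ hbij j b).symm⟩
  haveI : Mono ((mapShortComplex₂ X (n + 1)).g) :=
    (mapShortComplex₂_exact hX (n + 1)).mono_g ((h0 n).eq_of_src _ _)
  haveI : Epi ((mapShortComplex₃ hX (rfl : n + 1 + 1 = n + 2)).f) :=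
    (mapShortComplex₃_exact hX (rfl : n + 1 + 1 = n + 2)).epi_f ((h0 (n + 1)).eq_of_tgt _ _)
  exact ⟨(ModuleCat.mono_iff_injective _).1 ‹Mono ((mapShortComplex₂ X (n + 1)).g)›,
    (ModuleCat.epi_iff_surjective _).1 ‹Epi ((mapShortComplex₃ hX (rfl : n + 1 + 1 = n + 2)).f)›⟩

/-- Principal units of a henselian local ring are uniquely divisible by integers prime to the residue
characteristic. -/
theorem existsUnique_root {R : Type u} [CommRing R] [HenselianLocalRing R] (N : ℕ)
    (hN : (N : IsLocalRing.ResidueField R) ≠ 0) (v : R) (hv : IsLocalRing.residue R v = 1) :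
    ∃! w : R, IsLocalRing.residue R w = 1 ∧ w ^ N = v := by
  have hN0 : N ≠ 0 := fun h => hN (by rw [h, Nat.cast_zero])
  obtain ⟨w, hw, hw1⟩ := HenselianLocalRing.is_henselian (Polynomial.X ^ N - Polynomial.C v)
    (Polynomial.monic_X_pow_sub_C v hN0) 1
    ((IsLocalRing.residue_eq_zero_iff _).1 (by simp [hv]))
    ((IsLocalRing.residue_ne_zero_iff_isUnit _).1 (by simpa [Polynomial.derivative_X_pow] using hN))
  have hwN : w ^ N = v := by simpa [Polynomial.IsRoot, sub_eq_zero] using hw
  have hwres : IsLocalRing.residue R w = 1 := by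
    simpa [sub_eq_zero] using (IsLocalRing.residue_eq_zero_iff _).2 hw1
  refine ⟨w, ⟨hwres, hwN⟩, fun w' h' => ?_⟩
  have key : (∑ i ∈ Finset.range N, w' ^ i * w ^ (N - 1 - i)) * (w' - w) = 0 := by
    rw [geom_sum₂_mul, h'.2, hwN, sub_self]
  have hu : IsUnit (∑ i ∈ Finset.range N, w' ^ i * w ^ (N - 1 - i)) :=
    (IsLocalRing.residue_ne_zero_iff_isUnit _).1 (by simpa [map_sum, h'.1, hwres] using hN)
  exact sub_eq_zero.1 (hu.mul_right_eq_zero.1 key)

end Groth.L14.GalCoh
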